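import Groth.Prelude.Def_TorSh
import Groth.Prelude.Def_CInt
import Groth.Agent.FlatMor.FibreStalk
import Groth.Agent.FlatOpen.FibreCrit
import Groth.Agent.FlatMor.FreeFibre
import Groth.Agent.Props.QProj
import Groth.Agent.Props.QFP
import Groth.Agent.Props.QStalk
import Groth.Agent.PullStalk.Basic
import Groth.Agent.BigOpen12.Basic
import Groth.Agent.S0558
import Groth.Agent.S1393
import Mathlib.RingTheory.DiscreteValuationRing.TFAE

/-!
# Fibrewise torsion-free modules are free at points of fibre codimension at most one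
-/

set_option autoImplicit false
set_option linter.style.haveILetI false
universe u

open CategoryTheory CategoryTheory.Limits AlgebraicGeometry
open scoped TensorProduct

namespace Groth.Agent.TFFree12

/-- A finite torsion-free module over a regular local ring of dimension at most one is free. -/
theorem free_of_isTorsionFree {R N : Type u} [CommRing R] [IsRegularLocalRing R] [AddCommGroup N] [Module R N]
    [Module.Finite R N] [Module.IsTorsionFree R N] (hdim : ringKrullDim R ≤ 1) : Module.Free R N := by
  haveI : IsDomain R := RegLoc.isDomain R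
  haveI : (IsLocalRing.maximalIdeal R).IsPrincipal := by
    have hle : (IsLocalRing.maximalIdeal R).spanFinrank ≤ 1 := by
      have := (IsRegularLocalRing.spanFinrank_maximalIdeal (R := R)).le.trans hdim
      exact_mod_cast this
    have hfg : (IsLocalRing.maximalIdeal R).FG := IsNoetherian.noetherian _
    rcases Nat.le_one_iff_eq_zero_or_eq_one.1 hle with h0 | h1
    · rw [Submodule.spanFinrank_eq_zero_iff_eq_bot hfg] at h0
      rw [h0]; infer_instance
    · have hs := Submodule.span_generators (IsLocalRing.maximalIdeal R)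
      obtain ⟨a, ha⟩ := Set.ncard_eq_one.1 ((Submodule.FG.generators_ncard hfg).trans h1)
      exact ⟨⟨a, by rw [← ha, hs]⟩⟩
  haveI : IsPrincipalIdealRing R :=
    ((tfae_of_isNoetherianRing_of_isLocalRing_of_isDomain R).out 0 4).2 ‹_›
  exact Module.free_of_finite_type_torsion_free'

/-- Flatness of `M ⧸ JM` from flatness of a base change along a surjection with kernel `J`. -/
theorem flat_quot_of_isBaseChange {B R M N : Type u} [CommRing B] [CommRing R] [Algebra B R]
    [AddCommGroup M] [Module B M] [AddCommGroup N] [Module B N] [Module R N] [IsScalarTower B R N]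
    (hsurj : Function.Surjective (algebraMap B R)) (J : Ideal B) (hJ : RingHom.ker (algebraMap B R) = J)
    (f : M →ₗ[B] N) (hf : IsBaseChange R f) [Module.Flat R N] :
    Module.Flat (B ⧸ J) (M ⧸ J • (⊤ : Submodule B M)) := by
  subst hJ
  let e : (B ⧸ RingHom.ker (algebraMap B R)) ≃ₐ[B] R :=
    Ideal.quotientKerAlgEquivOfSurjective (f := Algebra.ofId B R) hsurj
  letI : Algebra R (B ⧸ RingHom.ker (algebraMap B R)) := e.symm.toAlgHom.toRingHom.toAlgebra
  haveI : IsScalarTower B R (B ⧸ RingHom.ker (algebraMap B R)) :=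
    IsScalarTower.of_algebraMap_eq fun b => (e.symm.commutes b).symm
  haveI : Module.Flat R (R ⊗[B] M) := Module.Flat.of_linearEquiv hf.equiv
  haveI : Module.Flat (B ⧸ RingHom.ker (algebraMap B R)) ((B ⧸ RingHom.ker (algebraMap B R)) ⊗[B] M) :=
    Module.Flat.of_linearEquiv (TensorProduct.AlgebraTensorModule.cancelBaseChange B R
      (B ⧸ RingHom.ker (algebraMap B R)) (B ⧸ RingHom.ker (algebraMap B R)) M).symm
  exact FlatOpen.flat_of_linearEquiv_of_surjective Ideal.Quotient.mk_surjective
    (TensorProduct.quotTensorEquivQuotSMul M (RingHom.ker (algebraMap B R)))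

/-- A flat module with torsion-free fibres is free near every point of fibre codimension at most one
of a family with regular fibres. -/
theorem exists_free_nhd {X S : Scheme.{u}} (q : X ⟶ S) [LocallyOfFinitePresentation q] [QuasiCompact q]
    [QuasiSeparated q] (hreg : ∀ (s : S) (w : q.fiber s), IsRegularLocalRing ((q.fiber s).presheaf.stalk w))
    (F : X.Modules) (hFq : Coh.IsQCoh F) (hfp : CohB1.IsFP F) (hfl : FlatMod.IsFlatOver q F)
    (htf : ∀ s : S, TorSh.IsTorsionFree ((Scheme.Modules.pullback (q.fiberι s)).obj F))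
    (x : X) (hx : ringKrullDim (CInt.fiberStalk q x) ≤ 1) :
    ∃ (V : X.Opens) (n : ℕ), x ∈ V ∧ Nonempty (F.restrict V.ι ≅ FlatMod.freeMod (↑V) n) := by
  suffices H : ∀ (s : S) (w : q.fiber s), ringKrullDim ((q.fiber s).presheaf.stalk w) ≤ 1 →
      ∃ (V : X.Opens) (n : ℕ), q.fiberι s w ∈ V ∧ Nonempty (F.restrict V.ι ≅ FlatMod.freeMod (↑V) n) by
    have := H (q x) (q.asFiber x) hx
    rwa [q.fiberι_asFiber] at this
  intro s w hdim
  let ι := q.fiberι s
  let x₀ := ι w
  let B := X.presheaf.stalk x₀
  let R := (q.fiber s).presheaf.stalk w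
  let N := ((Scheme.Modules.pullback ι).obj F).presheaf.stalk w
  haveI : F.IsQuasicoherent := hFq
  haveI : Module.Finite B (F.presheaf.stalk x₀) := by
    obtain ⟨_, ⟨W, hW, rfl⟩, hxW, -⟩ := X.isBasis_affineOpens.exists_subset_of_mem_open
      (Set.mem_univ x₀) isOpen_univ
    replace hW : IsAffineOpen W := hW
    haveI : Module.FinitePresentation Γ(X, W) Γ(F, W) := (Props.QFP.isFP_iff F).1 hfp W hW
    let _ := Props.QStalk.moduleSections F hxW
    let _ := X.presheaf.algebra_section_stalk ⟨x₀, hxW⟩
    haveI : IsScalarTower Γ(X, W) B (F.presheaf.stalk x₀) := IsScalarTower.of_algebraMap_smul fun _ _ => rfl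
    haveI := Props.QStalk.isLocalizedModule_germLin F hxW hW
    haveI : IsLocalization.AtPrime B (hW.primeIdealOf ⟨x₀, hxW⟩).asIdeal := hW.isLocalization_stalk ⟨x₀, hxW⟩
    exact Module.Finite.of_isLocalizedModule (Rₚ := B) (hW.primeIdealOf ⟨x₀, hxW⟩).asIdeal.primeCompl
      (Props.QStalk.germLin F hxW)
  letI : Algebra B R := (ι.stalkMap w).hom.toAlgebra
  letI := PullStalk.Basic.moduleOver ι F w
  haveI : IsScalarTower B R N := IsScalarTower.of_algebraMap_smul fun _ _ => rfl
  have hbc := PullStalk.Basic.isBaseChange_unitStalk ι F w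
  haveI : Module.Finite R N := Module.Finite.equiv hbc.equiv
  haveI := hreg s w
  haveI : Module.IsTorsionFree R N := htf s w
  haveI : Module.Free R N := free_of_isTorsionFree hdim
  have h2 := flat_quot_of_isBaseChange (ι.stalkMap_surjective w) _ (FlatMor.FibreStalk.ker_stalkMap_fiberι q s w)
    (PullStalk.Basic.unitStalk ι F w) hbc
  exact Groth.Agent.S1393.result q F hFq hfp x₀ (hfl x₀) h2

end Groth.Agent.TFFree12
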