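import Groth.Agent.HomShQC.Basic

/-!
# Sheaf Hom into a module which extends across an open

If `Γ(M, W) → Γ(M, W ⊓ U)` is bijective for every open `W`, the same holds for `homSh G M`.
-/

set_option autoImplicit false
universe u

open CategoryTheory CategoryTheory.Limits AlgebraicGeometry TopologicalSpace Opposite
open Groth.Agent.QCoh Groth.Agent.PullStalk.Sky Groth.Agent.Props.QStalk

namespace Groth.Agent.TFFree12

variable {X : Scheme.{u}} (G M : X.Modules) (U : X.Opens)
  (hb : ∀ W : X.Opens, Function.Bijective (fun m : Γ(M, W) => res M (inf_le_left : W ⊓ U ≤ W) m))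

include hb

/-- Sections of `homSh G M` extend uniquely across `U`. -/
theorem homSh_res_bijective (V : X.Opens) :
    Function.Bijective (fun g : Γ(RefHull.homSh G M, V) => res (RefHull.homSh G M) (inf_le_left : V ⊓ U ≤ V) g) := by
  classical
  constructor
  · intro g g' h
    have hg : ∀ y : ↥(V ⊓ U), g.1 ⟨y.1, y.2.1⟩ = g'.1 ⟨y.1, y.2.1⟩ := fun y => congrFun (congrArg Subtype.val h) y
    apply Subtype.ext
    funext z
    refine LinearMap.ext fun v => ?_
    obtain ⟨W, hzW, m, rfl⟩ := exists_germM_eq G z.1 v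
    let W' := W ⊓ V
    have hz' : z.1 ∈ W' := ⟨hzW, z.2⟩
    rw [← HomShQC.germM_res G (inf_le_left : W' ≤ W) z.1 hz' m]
    obtain ⟨n, hn⟩ := HomShQC.exists_value G M (res (RefHull.homSh G M) (inf_le_right : W' ≤ V) g)
      (res G (inf_le_left : W' ≤ W) m)
    obtain ⟨n', hn'⟩ := HomShQC.exists_value G M (res (RefHull.homSh G M) (inf_le_right : W' ≤ V) g')
      (res G (inf_le_left : W' ≤ W) m)
    have e : n = n' := (hb W').1 (HomShQC.sec_ext M fun y hy => by
      rw [HomShQC.germM_res, HomShQC.germM_res, hn ⟨y, hy.1⟩, hn' ⟨y, hy.1⟩]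
      exact DFunLike.congr_fun (hg ⟨y, hy.1.2, hy.2⟩) _)
    exact (hn ⟨z.1, hz'⟩).symm.trans ((congrArg (germM M W' z.1 hz') e).trans (hn' ⟨z.1, hz'⟩))
  · intro f
    have hval : ∀ (W : X.Opens) (hW : W ≤ V) (m : Γ(G, W)), ∃ n : Γ(M, W), ∀ (y : X) (hy : y ∈ W ⊓ U),
        germM M W y hy.1 n = f.1 ⟨y, hW hy.1, hy.2⟩ (germM G W y hy.1 m) := by
      intro W hW m
      obtain ⟨n₀, hn₀⟩ := HomShQC.exists_value G M
        (res (RefHull.homSh G M) (show W ⊓ U ≤ V ⊓ U from inf_le_inf_right U hW) f)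
        (res G (inf_le_left : W ⊓ U ≤ W) m)
      obtain ⟨n, hn⟩ := (hb W).2 n₀
      refine ⟨n, fun y hy => ?_⟩
      rw [← HomShQC.germM_res M (inf_le_left : W ⊓ U ≤ W) y hy n, show res M (inf_le_left : W ⊓ U ≤ W) n = n₀ from hn,
        hn₀ ⟨y, hy⟩, HomShQC.germM_res]
      rfl
    choose ν hν using hval
    have huniq : ∀ (W : X.Opens) (n n' : Γ(M, W)),
        (∀ (y : X) (hy : y ∈ W ⊓ U), germM M W y hy.1 n = germM M W y hy.1 n') → n = n' :=
      fun W n n' h => (hb W).1 (HomShQC.sec_ext M fun y hy => by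
        rw [HomShQC.germM_res, HomShQC.germM_res]; exact h y hy)
    have hres : ∀ (W W' : X.Opens) (hW : W ≤ V) (h : W' ≤ W) (m : Γ(G, W)),
        ν W' (h.trans hW) (res G h m) = res M h (ν W hW m) := fun W W' hW h m => huniq W' _ _ fun y hy => by
      rw [hν _ _ _ y hy, HomShQC.germM_res, HomShQC.germM_res, hν W hW m y ⟨h hy.1, hy.2⟩]
    have hwd : ∀ (z : X) (W W' : X.Opens) (hW : W ≤ V) (hW' : W' ≤ V) (hz : z ∈ W) (hz' : z ∈ W')
        (m : Γ(G, W)) (m' : Γ(G, W')), germM G W z hz m = germM G W' z hz' m' →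
        germM M W z hz (ν W hW m) = germM M W' z hz' (ν W' hW' m') := by
      intro z W W' hW hW' hz hz' m m' h
      obtain ⟨T, hzT, i, i', e⟩ := G.presheaf.germ_eq z hz hz' m m' h
      have e' : res G i.le m = res G i'.le m' := e
      rw [← HomShQC.germM_res M i.le z hzT, ← HomShQC.germM_res M i'.le z hzT, ← hres W T hW i.le m,
        ← hres W' T hW' i'.le m', e']
    have hrep : ∀ (z : ↥V) (v : G.presheaf.stalk z.1), ∃ (W : X.Opens) (_ : W ≤ V) (hz : z.1 ∈ W) (m : Γ(G, W)),
        germM G W z.1 hz m = v := by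
      intro z v
      obtain ⟨W, hzW, m, rfl⟩ := exists_germM_eq G z.1 v
      exact ⟨W ⊓ V, inf_le_right, ⟨hzW, z.2⟩, res G inf_le_left m, HomShQC.germM_res G _ _ _ m⟩
    choose Wv hWv hzv mv hmv using hrep
    let φ₀ : ∀ z : ↥V, G.presheaf.stalk z.1 → M.presheaf.stalk z.1 := fun z v =>
      germM M (Wv z v) z.1 (hzv z v) (ν (Wv z v) (hWv z v) (mv z v))
    have hφ : ∀ (z : ↥V) (W : X.Opens) (hW : W ≤ V) (hz : z.1 ∈ W) (m : Γ(G, W)),
        φ₀ z (germM G W z.1 hz m) = germM M W z.1 hz (ν W hW m) :=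
      fun z W hW hz m => hwd _ _ _ _ _ _ _ _ _ (hmv z _)
    let φ : ∀ z : ↥V, RefHull.StalkHom G M z.1 := fun z =>
      { toFun := φ₀ z
        map_add' := fun v w => by
          let T := Wv z v ⊓ Wv z w
          have hT : T ≤ V := inf_le_left.trans (hWv z v)
          have hzT : z.1 ∈ T := ⟨hzv z v, hzv z w⟩
          let a := res G (inf_le_left : T ≤ Wv z v) (mv z v)
          let b := res G (inf_le_right : T ≤ Wv z w) (mv z w)
          have ha : germM G T z.1 hzT a = v := (HomShQC.germM_res G _ _ _ _).trans (hmv z v)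
          have hb' : germM G T z.1 hzT b = w := (HomShQC.germM_res G _ _ _ _).trans (hmv z w)
          have hadd : ν T hT (a + b) = ν T hT a + ν T hT b := huniq T _ _ fun y hy => by
            rw [hν _ _ _ y hy]
            refine Eq.trans ?_ (map_add (M.presheaf.germ T y hy.1).hom _ _).symm
            refine (congrArg _ (map_add (G.presheaf.germ T y hy.1).hom a b)).trans ?_
            rw [map_add]
            exact congrArg₂ (· + ·) (hν T hT a y hy).symm (hν T hT b y hy).symm
          have hab : germM G T z.1 hzT (a + b) = v + w :=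
            (map_add (G.presheaf.germ T z.1 hzT).hom a b).trans (congrArg₂ (· + ·) ha hb')
          rw [← hab, hφ z T hT hzT, hadd, ← ha, ← hb', hφ z T hT hzT, hφ z T hT hzT]
          exact map_add (M.presheaf.germ T z.1 hzT).hom _ _
        map_smul' := fun r v => by
          obtain ⟨W₁, hz₁, r₁, rfl⟩ := X.presheaf.exists_germ_eq (x := z.1) r
          let T := Wv z v ⊓ W₁
          have hT : T ≤ V := inf_le_left.trans (hWv z v)
          have hzT : z.1 ∈ T := ⟨hzv z v, hz₁⟩
          let a := res G (inf_le_left : T ≤ Wv z v) (mv z v)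
          let c := rres (X := X) (inf_le_right : T ≤ W₁) r₁
          have ha : germM G T z.1 hzT a = v := (HomShQC.germM_res G _ _ _ _).trans (hmv z v)
          have hsmul : ν T hT (c • a) = c • ν T hT a := huniq T _ _ fun y hy => by
            rw [hν _ _ _ y hy, germM_smul, germM_smul, map_smul, hν _ _ _ y hy]
          have hc : X.presheaf.germ T z.1 hzT c = X.presheaf.germ W₁ z.1 hz₁ r₁ := HomShQC.germ_rres _ _ _ _
          rw [RingHom.id_apply, ← ha, ← hc, ← germM_smul, hφ z T hT hzT, hsmul, hφ z T hT hzT, germM_smul] }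
    refine ⟨⟨φ, fun W i m x => ⟨W, x.2, 𝟙 W, ν W i.le m, fun y => hφ _ W i.le y.2 m⟩⟩, ?_⟩
    apply Subtype.ext
    funext y
    refine LinearMap.ext fun v => ?_
    obtain ⟨W, hyW, m, rfl⟩ := exists_germM_eq G y.1 v
    rw [← HomShQC.germM_res G (inf_le_left : W ⊓ V ≤ W) y.1 ⟨hyW, y.2.1⟩ m]
    exact (hφ ⟨y.1, y.2.1⟩ (W ⊓ V) inf_le_right ⟨hyW, y.2.1⟩ _).trans
      (hν (W ⊓ V) inf_le_right _ y.1 ⟨⟨hyW, y.2.1⟩, y.2.2⟩)

end Groth.Agent.TFFree12
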